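import Cfsg.Agent.H43.Eleven.Local
import Cfsg.Agent.H794.DefAb
import Cfsg.Agent.ClassicalGeometry.PSUAutPhi
import Cfsg.Agent.LieClassical.FieldTransfer

/-!
# S3403: groups of Lie type in characteristic 11 (helper216)

`row_char11 : IsLieTypeChar 11 X → Row X`.
-/

set_option autoImplicit false
set_option linter.unusedSectionVars false

namespace Cfsg.Agent.H216.ElDef

open Cfsg Subgroup Cfsg.Agent.H43.Eleven Cfsg.Agent.H794 Cfsg.Agent.H794.DefRank

universe u

section full

variable {G : Type u} [Group G] [Finite G] {P : Subgroup G}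

/-- `P` is strongly closed in every `11`-subgroup containing it -/
theorem closed (h : Cfg P) {S : Subgroup G} (hS : IsPGroup 11 ↥S) (hPS : P ≤ S) : IsStronglyClosed P S := by
  refine ⟨hPS, fun x hx g hg => ?_⟩
  by_cases hx1 : x = 1
  · subst hx1; simp
  have : Fact (Nat.Prime 11) := ⟨by norm_num⟩
  have h1 : zpowers x = P := by
    have h2 : Nat.card (zpowers x) ∣ 11 := h.card ▸ card_dvd_of_le (zpowers_le.2 hx)
    rcases (Nat.dvd_prime (by norm_num)).1 h2 with h3 | h3
    · exfalso
      rw [Nat.card_zpowers, orderOf_eq_one_iff] at h3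
      exact hx1 h3
    · exact eq_of_le_of_card_ge (zpowers_le.2 hx) (by rw [h.card, h3])
  have h2 : cj g P ≤ S := by
    rw [← h1]
    show (zpowers x).map (MulAut.conj g).toMonoidHom ≤ S
    rw [MonoidHom.map_zpowers, zpowers_le]
    exact hg
  have h3 := h.eq_of_mem_pgroup hS hPS h2
  rw [← h3]
  exact conj_mem_cj hx

theorem card_of_full (hf : Full 11 G) (h : Cfg P) (S : Sylow 11 G) : Nat.card (S : Subgroup G) = 11 := by
  have : Fact (Nat.Prime 11) := ⟨by norm_num⟩
  obtain ⟨g, hg, -⟩ := h.exists_conj_sylow S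
  rcases hf S (cj g P) (closed (h.conj g) S.isPGroup' hg) with h1 | h1
  · exact absurd h1 (h.conj g).ne_bot
  · rw [← h1, card_cj, h.card]

end full

section rank

open CoxeterSystem Cfsg.Agent.ChevalleyStructure.CoxeterGeom Cfsg.Agent.Tits.Roots
  Cfsg.Agent.Nodes.Reps Cfsg.Agent.Nodes.BNOf

variable {I W Y : Type*} [Fintype I] [DecidableEq I] [Group W] [Group Y] {M : CoxeterMatrix I}
  {cs : CoxeterSystem M W} {A : I → I → ℤ} {h : IsCartan M A} {p : ℕ} {T : Subgroup Y} {n : I → Y}
  {X : (I → ℤ) → Subgroup Y}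

theorem ne_bot_sr (R : RGD cs h p T n X) (i : I) : X (sr i) ≠ ⊥ := by
  intro h0
  apply R.notp i
  have h1 := R.conj i (sr i) (isRoot_sr cs h i)
  rw [rep_simple_sr, h0] at h1
  have h2 : X (-sr i) = ⊥ := by
    rw [← h1]
    exact Subgroup.map_bot _
  rw [h0, h2, sup_idem]
  exact IsPGroup.of_bot

/-- in rank at least two the positive unipotent group has order `≠ p` -/
theorem card_ne [Finite W] [Finite Y] [Nontrivial I] [hp : Fact p.Prime] (R : RGD cs h p T n X) {S : Subgroup Y}
    (hS : ∀ x, IsRoot cs h x → 0 ≤ x → X x ≤ S) : Nat.card S ≠ p := by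
  intro hc
  obtain ⟨i, j, hij⟩ := exists_pair_ne I
  have key : ∀ x, IsRoot cs h x → 0 ≤ x → X x ≠ ⊥ → X x = S := by
    intro x hx h0 hne
    refine eq_of_le_of_card_ge (hS x hx h0) ?_
    have h1 := card_dvd_of_le (hS x hx h0)
    rw [hc, Nat.dvd_prime hp.out] at h1
    rcases h1 with h1 | h1
    · exact absurd (card_eq_one.1 h1) hne
    · rw [hc, h1]
  have hi := key (sr i) (isRoot_sr cs h i) (sr_nonneg i) (ne_bot_sr R i)
  have hj := key (sr j) (isRoot_sr cs h j) (sr_nonneg j) (ne_bot_sr R j)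
  have hji : sr j ≠ (sr i : I → ℤ) := by
    intro he
    have h1 := congrFun he i
    rw [sr_ne hij, sr_self] at h1
    exact absurd h1 (by norm_num)
  have h1 := R.conj i (sr j) (isRoot_sr cs h j)
  have h2 : X (rep cs h (cs.simple i) (sr j)) = S := by
    refine key _ ((isRoot_sr cs h j).act _) ((isRoot_sr cs h j).simple_nonneg (sr_nonneg j) i hji) ?_
    rw [← h1]
    intro h3
    exact ne_bot_sr R j ((Subgroup.map_eq_bot_iff_of_injective _ (MulAut.conj (n i)).injective).1 h3)
  have h3 := R.conj i (sr i) (isRoot_sr cs h i)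
  rw [rep_simple_sr] at h3
  rw [h2, hj] at h1
  rw [hi, h1] at h3
  apply R.notp i
  rw [← h3, hi, sup_idem]
  exact hi ▸ R.pgrp i

end rank

theorem false_of_rk2 {G : Type u} [Group G] [Finite G] [IsSimpleGroup G] (hc : ∃ a b : G, a * b ≠ b * a)
    (hG : HasRk2 11 G) {P : Subgroup G} (h : Cfg P) : False := by
  have : Fact (Nat.Prime 11) := ⟨by norm_num⟩
  have hf := full_of_rk2 hc hG
  obtain ⟨l, M, A, hA, T, n, X, R, hl, hW, hX⟩ := hG
  have : Nontrivial (Fin l) := Fin.nontrivial_iff_two_le.2 hl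
  obtain ⟨S', hS'⟩ := R.isPGroup_Upos.exists_le_sylow
  refine card_ne R (S := (S' : Subgroup G)) (fun x hx h0 => le_trans ?_ hS') (card_of_full hf h S')
  exact Cfsg.Agent.Nodes.BNOf.RGD.le_Sup (show x ∈ Cfsg.Agent.Nodes.BNOf.RGD.Pos _ _ from ⟨hx, h0⟩)

/-! ### `PSL₂` -/

section psl

open Matrix Cfsg.Agent.Classification.PSLTwoEvenSylow Cfsg.Agent.H794.PslTwo

theorem good_psl {F : Type*} [Field F] [Fintype F] [CharP F 11] {P : Subgroup (ProjectiveSpecialLinearGroup (Fin 2) F)}
    (h : Cfg P) : Good (ProjectiveSpecialLinearGroup (Fin 2) F) := by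
  have : Fact (Nat.Prime 11) := ⟨by norm_num⟩
  have : Finite (ProjectiveSpecialLinearGroup (Fin 2) F) := Quotient.finite _
  obtain ⟨n, hp1, hn⟩ := FiniteField.card F 11
  have hcardU : Nat.card (uniP (F := F)).range = 11 ^ (n : ℕ) := by
    rw [← Nat.card_congr (MonoidHom.ofInjective uniP_injective).toEquiv, ← hn, ← Nat.card_eq_fintype_card]
    exact Nat.card_congr Multiplicative.toAdd
  have hU : IsPGroup 11 (uniP (F := F)).range := IsPGroup.of_card hcardU
  obtain ⟨Q, hQ⟩ := hU.exists_le_sylow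
  have hEq := eq_of_isPGroup Q.isPGroup' hQ
  have h1 := card_of_full full_psl h Q
  rw [← hEq, hcardU] at h1
  have hF : Fintype.card F = 11 := by rw [hn, h1]
  exact Or.inl ⟨LieClassical.FieldTransfer.pslCongr (ZMod.ringEquivOfPrime F (by norm_num) hF).symm⟩

end psl

/-! ### `PSUₙ` -/

section psu

open Cfsg.Agent.ClassicalGeometry.PSUAutBasic Cfsg.Agent.ClassicalGeometry.PSUAutSylow
  Cfsg.Agent.ClassicalGeometry.PSUAutPhi
  Cfsg.Agent.LieClassical.HermSiegel Cfsg.Agent.LieClassical.HermBasic Cfsg.Agent.LieClassical.HermGen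

variable {F : Type*} [Field F] [Fintype F] {q n : ℕ}

/-- two transvections generating a group with an element of order 4 -/
theorem orderOf_four [CharP F 11] (hF : Fintype.card F = q ^ 2) (hn : 3 ≤ n) {u f : Fin n → F}
    (hu : hermForm n F q u u = 0) (hf : hermForm n F q f f = 0) (huf : hermForm n F q u f = 1)
    (hfu : hermForm n F q f u = 1) {μ c : F} (hμ : μ + μ ^ q = 0) (hc : c * c ^ q * μ ^ 2 = -1)
    (hcf : hermForm n F q (c • f) (c • f) = 0) :
    orderOf (pr n F q (transv hF u hu μ hμ) * pr n F q (transv hF (c • f) hcf μ hμ) *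
      pr n F q (transv hF u hu μ hμ)) = 4 := by
  have hμ0 : μ ≠ 0 := by
    rintro rfl
    norm_num at hc
  set ν : F := c * c ^ q * μ with hν
  have hνμ : ν * μ = -1 := by rw [hν, ← hc]; ring
  have hy : ∀ v, act (transv hF (c • f) hcf μ hμ) v = v + (ν * hermForm n F q v f) • f := by
    intro v
    rw [act_transv, herm_smul_right, smul_smul, hν]
    congr 2
    ring
  set w : SU n F q := transv hF u hu μ hμ * transv hF (c • f) hcf μ hμ * transv hF u hu μ hμ with hw
  have hwv : ∀ v, act w v = v - hermForm n F q v f • u - hermForm n F q v u • f +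
      (ν * hermForm n F q v f) • f + (μ * hermForm n F q v u) • u := by
    intro v
    rw [hw, act_mul, act_mul, act_transv, hy, act_transv]
    simp only [herm_add_left, herm_smul_left, hu, huf, hfu]
    funext i
    simp only [Pi.add_apply, Pi.sub_apply, Pi.smul_apply, smul_eq_mul]
    linear_combination (hermForm n F q v f * u i + hermForm n F q v u * f i +
      μ * hermForm n F q v u * u i) * hνμ
  have hww : ∀ v, act (w * w) v = v - (2 * hermForm n F q v f) • u - (2 * hermForm n F q v u) • f := by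
    intro v
    rw [act_mul, hwv (act w v), hwv v]
    simp only [herm_add_left, herm_sub_left, herm_smul_left, hu, hf, huf, hfu]
    funext i
    simp only [Pi.add_apply, Pi.sub_apply, Pi.smul_apply, smul_eq_mul]
    linear_combination (hermForm n F q v f * u i + hermForm n F q v u * f i) * hνμ
  have h4 : w * w * (w * w) = 1 := by
    apply ext_act
    intro v
    rw [act_mul, hww (act (w * w) v), hww v, act_one]
    simp only [herm_sub_left, herm_smul_left, hu, hf, huf, hfu]
    funext i
    simp only [Pi.sub_apply, Pi.smul_apply, smul_eq_mul]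
    ring
  have h2 : (2 : F) ≠ 0 := by
    intro h2
    have h3 : CharP F 2 := CharTwo.of_one_ne_zero_of_two_eq_zero one_ne_zero h2
    have := CharP.eq F ‹CharP F 11› h3
    omega
  have hu0 : u ≠ 0 := by
    rintro rfl
    rw [herm_zero_left] at huf
    exact zero_ne_one huf
  have hmul : pr n F q (transv hF u hu μ hμ) * pr n F q (transv hF (c • f) hcf μ hμ) *
      pr n F q (transv hF u hu μ hμ) = pr n F q w := by
    rw [hw, map_mul, map_mul]
  rw [hmul]
  have : Fact (Nat.Prime 2) := ⟨Nat.prime_two⟩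
  refine orderOf_eq_prime_pow (p := 2) (n := 1) ?_ ?_
  · rw [pow_one, pow_two, ← map_mul, pr_eq_one_iff]
    intro hz
    obtain ⟨d, -, -, hd⟩ := exists_scalar_of_mem_center hF hn hz
    obtain ⟨x, -, hx0, hxu, hxf⟩ := exists_ne_zero_perp hF hn le_rfl u f
    have e1 := hd u
    rw [hww, hu, huf, mul_zero, zero_smul, sub_zero, mul_one] at e1
    have e2 := hd x
    rw [hww, hxu, hxf, mul_zero, zero_smul, zero_smul, sub_zero, sub_zero] at e2
    have e3 : d = 1 := by
      have : (d - 1) • x = 0 := by rw [sub_smul, ← e2, one_smul, sub_self]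
      rcases smul_eq_zero.1 this with h | h
      · exact sub_eq_zero.1 h
      · exact absurd h hx0
    rw [e3, one_smul, sub_eq_self, smul_eq_zero] at e1
    exact e1.elim h2 hu0
  · have e : pr n F q w ^ 2 ^ (1 + 1) = pr n F q (w * w * (w * w)) := by
      rw [map_mul (pr n F q) (w * w) (w * w), map_mul (pr n F q) w w, ← pow_two, ← pow_two, ← pow_mul]
      norm_num
    rw [e, h4, map_one]

theorem false_psu [CharP F 11] (hF : Fintype.card F = q ^ 2) (hn : 3 ≤ n) {P : Subgroup (PSU n F q)} (h : Cfg P) :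
    False := by
  have : Fact (Nat.Prime 11) := ⟨by norm_num⟩
  have : Finite (PSU n F q) := Quotient.finite _
  obtain ⟨T⟩ : Nonempty (Sylow 11 (PSU n F q)) := inferInstance
  obtain ⟨g, hg, hg'⟩ := h.exists_conj_sylow T
  obtain ⟨S, hS⟩ := exists_sylow_lift 11 T
  obtain ⟨u, hu0, hu, hfix⟩ := exists_fixed 11 hF (by omega) S.isPGroup'
  have hle : cj g P ≤ (transvG hF u hu).map (pr n F q) := by
    rw [← cent_sylow 11 hF hn S hu0 hu hfix, hS]
    refine le_inf hg ?_
    exact le_centralizer_iff.1 hg'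
  obtain ⟨x, hx, hxo, hxP⟩ := exists_gen (h.conj g).card
  obtain ⟨_, ⟨μ, hμ, rfl⟩, rfl⟩ := hle hx
  have hμ0 : μ ≠ 0 := by
    rintro rfl
    rw [transv_zero, map_one, orderOf_one] at hxo
    omega
  obtain ⟨f, hf, huf, hfu⟩ := exists_partner hF hu0 hu
  obtain ⟨c, hc0, hc⟩ := exists_norm_eq_ne hF (c := -(μ ^ 2)⁻¹) (by
    rw [neg_pow_q hF, inv_pow, ← pow_mul, mul_comm 2 q, pow_mul]
    have : μ ^ q = -μ := by linear_combination hμ
    rw [this]
    ring) (neg_ne_zero.2 (inv_ne_zero (pow_ne_zero 2 hμ0)))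
  have hcf : hermForm n F q (c • f) (c • f) = 0 := by rw [herm_smul_left, herm_smul_right, hf]; ring
  have hf0 : f ≠ 0 := by
    rintro rfl
    rw [herm_zero_left] at hfu
    exact zero_ne_one hfu
  obtain ⟨k, -, hk⟩ := exists_map_iso hF hn le_rfl (mem_coordSub_top u) (mem_coordSub_top (c • f)) hu0
    (smul_ne_zero hc0 hf0) hu hcf
  have h4 := orderOf_four hF hn hu hf huf hfu hμ (c := c) (by
    rw [hc, neg_mul, inv_mul_cancel₀ (pow_ne_zero 2 hμ0)]) hcf
  have hy : pr n F q (transv hF (c • f) hcf μ hμ) =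
      pr n F q k * pr n F q (transv hF u hu μ hμ) * (pr n F q k)⁻¹ := by
    rw [← map_mul, ← map_inv, ← map_mul, transv, transv, conj_siegel]
    congr 1
    exact siegel_congr hF _ _ hk.symm (act_zero k).symm rfl
  refine h.false_of_pair' (a := pr n F q (transv hF u hu μ hμ)) (b := pr n F q (transv hF (c • f) hcf μ hμ))
    (g := g) (g' := pr n F q k * g) hxP.symm ?_ ?_ (w := pr n F q (transv hF u hu μ hμ) *
      pr n F q (transv hF (c • f) hcf μ hμ) * pr n F q (transv hF u hu μ hμ)) ?_
  · rw [cj_mul, hxP]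
    show _ = (zpowers _).map (MulAut.conj _).toMonoidHom
    rw [MonoidHom.map_zpowers, hy]
    rfl
  · have ha : pr n F q (transv hF u hu μ hμ) ∈ closure ({pr n F q (transv hF u hu μ hμ),
      pr n F q (transv hF (c • f) hcf μ hμ)} : Set (PSU n F q)) := subset_closure (Or.inl rfl)
    have hb : pr n F q (transv hF (c • f) hcf μ hμ) ∈ closure ({pr n F q (transv hF u hu μ hμ),
      pr n F q (transv hF (c • f) hcf μ hμ)} : Set (PSU n F q)) := subset_closure (Or.inr rfl)
    exact mul_mem (mul_mem ha hb) ha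
  · rw [h4]; norm_num

end psu

/-- **Simple groups of Lie type in characteristic 11.** -/
theorem row_char11 {X : Type u} [Group X] [Finite X] [IsSimpleGroup X] (hX : IsLieTypeChar 11 X) : Row X := by
  intro hc P h _
  rcases rk2_or (by norm_num) hX with h1 | ⟨F, _, _, _, -, ⟨e⟩⟩ | ⟨F, _, _, _, q, hF, -, ⟨e⟩⟩ | ⟨h1, -⟩
  · exact (false_of_rk2 hc h1 h).elim
  · exact (good_psl (h.map_equiv e)).congr e.symm
  · exact (false_psu hF le_rfl (h.map_equiv e)).elim
  · norm_num at h1

end Cfsg.Agent.H216.ElDef
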