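import Cfsg.Agent.H790.Simple
import Cfsg.Agent.H795.AbSyl

/-!
# Criteria against `Star p` (helper216)

* `Star.false_pair` : `x ≠ 1` a `p`-element, `g x g⁻¹` commutes with `x` and with `h`, and `h x h⁻¹ = x ^ k ≠ x`, `k` prime to
  `p`... : `Star p G` is false;
* `Star.false_rot` : (`p = 3`) `h` of order 4 modulo the centralizer on `⟨x, y⟩`;
* `Star.of_pquot` : quotients by normal `p`-subgroups;
* `not_star_alt`.
-/

set_option autoImplicit false

namespace Cfsg.Agent.H216.StarCrit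

open Cfsg Cfsg.Agent.H790 Subgroup

variable {G : Type*} [Group G] {p : ℕ}

theorem isPGroup_zpowers' {x : G} {n : ℕ} (hx : x ^ p ^ n = 1) : IsPGroup p (zpowers x) := by
  rintro ⟨_, k, rfl⟩
  refine ⟨n, Subtype.ext ?_⟩
  show (x ^ k) ^ p ^ n = 1
  rw [← zpow_natCast, ← zpow_mul, mul_comm, zpow_mul, zpow_natCast, hx, one_zpow]

theorem conj_zpowers_map (g x : G) : (zpowers x).map (MulAut.conj g).toMonoidHom = zpowers (g * x * g⁻¹) := by
  rw [MonoidHom.map_zpowers]
  rfl

/-- powers of an element acting on `x` as the `k`-th power -/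
theorem conj_pow_pow {c x : G} {k : ℕ} (h : c * x * c⁻¹ = x ^ k) (n : ℕ) : c ^ n * x * (c ^ n)⁻¹ = x ^ k ^ n := by
  induction n with
  | zero => simp
  | succ n ih =>
    have : c ^ (n + 1) * x * (c ^ (n + 1))⁻¹ = c * (c ^ n * x * (c ^ n)⁻¹) * c⁻¹ := by
      rw [pow_succ']; group
    rw [this, ih, ← conj_pow, h, ← pow_mul, pow_succ, mul_comm]

/-- **Criterion.** `x ≠ 1` of order `p`, `x' = g x g⁻¹` commutes with `x`, `h` fixes `x'` and `h x h⁻¹ = x ^ k ≠ x`. -/
theorem Star.false_pair [Fact p.Prime] (hG : Star p G) {x g h : G} {k : ℕ} (hx : x ^ p = 1)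
    (hc : x * (g * x * g⁻¹) = (g * x * g⁻¹) * x) (h1 : h * x * h⁻¹ = x ^ k) (hk : x ^ k ≠ x)
    (h2 : h * (g * x * g⁻¹) * h⁻¹ = g * x * g⁻¹) : False := by
  have hp : p.Prime := Fact.out
  have hQ : IsPGroup p (zpowers x) := isPGroup_zpowers' (n := 1) (by rw [pow_one, hx])
  have hQ' : IsPGroup p (zpowers (g * x * g⁻¹)) := isPGroup_zpowers' (n := 1) (by
    rw [pow_one, conj_pow, hx, mul_one, mul_inv_cancel])
  have ho : orderOf x = p := orderOf_eq_prime hx (by
    rintro rfl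
    exact hk (one_pow k))
  have hkp : k.Coprime p := by
    rw [Nat.coprime_comm, hp.coprime_iff_not_dvd]
    rintro ⟨m, rfl⟩
    rw [pow_mul, hx, one_pow] at h1
    have : x = 1 := by
      have : x = h⁻¹ * (h * x * h⁻¹) * h := by group
      rw [this, h1]; group
    rw [this, orderOf_one] at ho
    exact hp.one_lt.ne ho
  have hnorm : h ∈ normalizer (zpowers x : Set G) := by
    have h3 : (zpowers x).map (MulAut.conj h).toMonoidHom = zpowers x := by
      rw [conj_zpowers_map, h1]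
      apply le_antisymm
      · rw [zpowers_le]; exact Subgroup.pow_mem _ (mem_zpowers x) k
      · obtain ⟨m, hm⟩ := exists_pow_eq_self_of_coprime (x := x) (n := k) (by rwa [ho])
        have hm' : (x ^ k) ^ m ∈ zpowers (x ^ k) := Subgroup.pow_mem _ (mem_zpowers (x ^ k)) m
        rw [zpowers_le]
        rwa [hm] at hm'
    rw [mem_normalizer_iff]
    intro y
    constructor
    · intro hy
      rw [← h3]
      exact ⟨y, hy, rfl⟩
    · intro hy
      rw [← h3] at hy
      obtain ⟨z, hz, hzy⟩ := hy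
      have : z = y := (MulAut.conj h).injective hzy
      exact this ▸ hz
  have hnorm' : h ∈ normalizer (((zpowers x).map (MulAut.conj g).toMonoidHom : Subgroup G) : Set G) := by
    rw [conj_zpowers_map]
    have h3 : ∀ y ∈ zpowers (g * x * g⁻¹), h * y * h⁻¹ = y := by
      rintro _ ⟨m, rfl⟩
      show h * (g * x * g⁻¹) ^ m * h⁻¹ = (g * x * g⁻¹) ^ m
      rw [← conj_zpow, h2]
    rw [mem_normalizer_iff]
    intro y
    constructor
    · intro hy
      rw [h3 y hy]; exact hy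
    · intro hy
      have h4 := h3 _ hy
      have h5 : h * y * h⁻¹ = y := by
        have : h * (h * y * h⁻¹) * h⁻¹ * h = h * y * h⁻¹ * h := by rw [h4]
        have h6 : h * (h * y * h⁻¹) = h * y := by
          calc h * (h * y * h⁻¹) = h * (h * y * h⁻¹) * h⁻¹ * h := by group
            _ = h * y * h⁻¹ * h := this
            _ = h * y := by group
        exact mul_left_cancel h6
      rw [← h5]; exact hy
  have hR : IsPGroup p ↥(zpowers x ⊔ (zpowers x).map (MulAut.conj g).toMonoidHom) := by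
    rw [conj_zpowers_map]
    refine hQ.to_sup_of_normal_right' hQ' ?_
    rw [zpowers_le, mem_normalizer_iff]
    have h3 : ∀ y ∈ zpowers (g * x * g⁻¹), x * y * x⁻¹ = y := by
      rintro _ ⟨m, rfl⟩
      show x * (g * x * g⁻¹) ^ m * x⁻¹ = (g * x * g⁻¹) ^ m
      rw [← conj_zpow, hc]
      congr 1
      group
    intro y
    constructor
    · intro hy
      rw [h3 y hy]; exact hy
    · intro hy
      have h4 := h3 _ hy
      have h6 : x * (x * y * x⁻¹) = x * y := by
        calc x * (x * y * x⁻¹) = x * (x * y * x⁻¹) * x⁻¹ * x := by group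
          _ = x * y * x⁻¹ * x := by rw [h4]
          _ = x * y := by group
      rw [← mul_left_cancel h6]; exact hy
  obtain ⟨N, hN⟩ := hG.comm (zpowers x) g h hR hnorm hnorm'
  have hact : (g⁻¹ * h⁻¹ * g * h) * x * (g⁻¹ * h⁻¹ * g * h)⁻¹ = x ^ k := by
    have h3 : h⁻¹ * (g * x * g⁻¹) * h = g * x * g⁻¹ := by
      nth_rewrite 1 [← h2]; group
    calc (g⁻¹ * h⁻¹ * g * h) * x * (g⁻¹ * h⁻¹ * g * h)⁻¹ = g⁻¹ * h⁻¹ * (g * (h * x * h⁻¹) * g⁻¹) * h * g := by group
      _ = g⁻¹ * h⁻¹ * (g * x * g⁻¹) ^ k * h * g := by rw [h1, conj_pow]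
      _ = g⁻¹ * (h⁻¹ * (g * x * g⁻¹) * h) ^ k * g := by
        have := conj_pow (i := k) (a := h⁻¹) (b := g * x * g⁻¹)
        rw [inv_inv] at this
        rw [this]; group
      _ = g⁻¹ * (g * x ^ k * g⁻¹) * g := by rw [h3, conj_pow]
      _ = x ^ k := by group
  have h5 := (conj_fix_iff _ _).1 hN x (mem_zpowers x)
  rw [conj_pow_pow hact] at h5
  apply hk
  have h6 : k ^ p ^ N ≡ k [MOD p] := by
    rw [← ZMod.natCast_eq_natCast_iff, Nat.cast_pow]
    exact ZMod.pow_card_pow _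
  have h7 : x ^ k ^ p ^ N = x ^ k := by
    rw [pow_eq_pow_iff_modEq, ho]
    exact h6
  rw [← h7, h5]

/-- **Criterion**, `p = 3`: an element permuting `x, y, x⁻¹, y⁻¹` cyclically. -/
theorem Star.false_rot (hG : Star 3 G) {x h : G} (hx : x ^ 3 = 1) (hx1 : x ≠ 1)
    (hc : x * (h * x * h⁻¹) = (h * x * h⁻¹) * x) (h1 : h * (h * x * h⁻¹) * h⁻¹ = x⁻¹) : False := by
  have hQ : IsPGroup 3 (zpowers x) := isPGroup_zpowers' (n := 1) (by rw [pow_one, hx])
  have hQ' : IsPGroup 3 (zpowers (h * x * h⁻¹)) := isPGroup_zpowers' (n := 1) (by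
    rw [pow_one, conj_pow, hx, mul_one, mul_inv_cancel])
  have hR : IsPGroup 3 ↥(zpowers x ⊔ zpowers (h * x * h⁻¹)) := by
    refine hQ.to_sup_of_normal_right' hQ' ?_
    rw [zpowers_le, mem_normalizer_iff]
    have h3 : ∀ y ∈ zpowers (h * x * h⁻¹), x * y * x⁻¹ = y := by
      rintro _ ⟨m, rfl⟩
      show x * (h * x * h⁻¹) ^ m * x⁻¹ = (h * x * h⁻¹) ^ m
      rw [← conj_zpow, hc]
      congr 1
      group
    intro y
    constructor
    · intro hy
      rw [h3 y hy]; exact hy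
    · intro hy
      have h4 := h3 _ hy
      have h6 : x * (x * y * x⁻¹) = x * y := by
        calc x * (x * y * x⁻¹) = x * (x * y * x⁻¹) * x⁻¹ * x := by group
          _ = x * y * x⁻¹ * x := by rw [h4]
          _ = x * y := by group
      rw [← mul_left_cancel h6]; exact hy
  have hn : h ∈ normalizer ((zpowers x ⊔ zpowers (h * x * h⁻¹) : Subgroup G) : Set G) := by
    have h3 : (zpowers x ⊔ zpowers (h * x * h⁻¹)).map (MulAut.conj h).toMonoidHom = zpowers x ⊔ zpowers (h * x * h⁻¹) := by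
      rw [Subgroup.map_sup, conj_zpowers_map, conj_zpowers_map, h1, zpowers_inv, sup_comm]
    rw [mem_normalizer_iff]
    intro y
    constructor
    · intro hy
      rw [← h3]
      exact ⟨y, hy, rfl⟩
    · intro hy
      rw [← h3] at hy
      obtain ⟨z, hz, hzy⟩ := hy
      have : z = y := (MulAut.conj h).injective hzy
      exact this ▸ hz
  obtain ⟨N, hN⟩ := hG.pow _ h hR hn
  have h5 := (conj_fix_iff _ _).1 hN x (mem_sup_left (mem_zpowers x))
  have h6 : (h ^ 2) * x * (h ^ 2)⁻¹ = x ^ 2 := by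
    have : (h ^ 2) * x * (h ^ 2)⁻¹ = h * (h * x * h⁻¹) * h⁻¹ := by
      rw [pow_two, mul_inv_rev]
      group
    rw [this, h1]
    refine inv_eq_of_mul_eq_one_left ?_
    rw [← hx]; group
  have h7 := conj_pow_pow h6 (3 ^ N)
  rw [← pow_mul] at h7
  have h8 : (3 - 1) * 3 ^ N = 2 * 3 ^ N := rfl
  rw [h8, h7] at h5
  have ho : orderOf x = 3 := orderOf_eq_prime hx hx1
  have h9 : 2 ^ 3 ^ N ≡ 1 [MOD 3] := by
    have h10 : x ^ 2 ^ 3 ^ N = x ^ 1 := by rw [h5, pow_one]
    rw [pow_eq_pow_iff_modEq, ho] at h10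
    exact h10
  have h11 : Odd (3 ^ N) := Odd.pow (by decide)
  obtain ⟨m, hm⟩ := h11
  have h12 : 2 ^ 3 ^ N ≡ 2 [MOD 3] := by
    rw [hm, pow_succ, pow_mul]
    have : (2 ^ 2) ^ m ≡ 1 ^ m [MOD 3] := Nat.ModEq.pow m (by decide)
    rw [one_pow] at this
    simpa using this.mul_right 2
  have h13 := h9.symm.trans h12
  revert h13
  decide

/-- an element mapping a finite subgroup into itself normalises it -/
theorem mem_normalizer_of_finite {Q : Subgroup G} [Finite Q] {h : G} (hh : ∀ x ∈ Q, h * x * h⁻¹ ∈ Q) :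
    h ∈ normalizer (Q : Set G) := by
  have h1 : Q.map (MulAut.conj h).toMonoidHom ≤ Q := by
    rintro _ ⟨x, hx, rfl⟩
    exact hh x hx
  have h2 : Q.map (MulAut.conj h).toMonoidHom = Q := by
    apply SetLike.coe_injective
    refine Set.eq_of_subset_of_ncard_le h1 ?_ (Set.toFinite _)
    rw [Subgroup.coe_map]
    exact (Set.ncard_image_of_injective _ (MulAut.conj h).injective).ge
  rw [mem_normalizer_iff]
  intro y
  constructor
  · exact hh y
  · intro hy
    rw [← h2] at hy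
    obtain ⟨z, hz, hzy⟩ := hy
    have : z = y := (MulAut.conj h).injective hzy
    exact this ▸ hz

/-- `h ^ m` fixes `x`, `m` prime to `(p - 1) p` : `h` fixes `x`. -/
theorem Star.fix_of_coprime (hG : Star p G) {Q : Subgroup G} (hQ : IsPGroup p Q) {h x : G} (hx : x ∈ Q)
    (hh : h ∈ normalizer (Q : Set G)) {m : ℕ} (hm : m.Coprime ((p - 1) * p)) (h1 : h ^ m * x * (h ^ m)⁻¹ = x) :
    h * x * h⁻¹ = x := by
  obtain ⟨N, hN⟩ := hG.pow Q h hQ hh
  have h2 := (conj_fix_iff _ _).1 hN x hx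
  have e1 : h ^ m ∈ centralizer ({x} : Set G) := by
    rw [mem_centralizer_singleton_iff]
    nth_rewrite 2 [← h1]
    group
  have e2 : h ^ ((p - 1) * p ^ N) ∈ centralizer ({x} : Set G) := by
    rw [mem_centralizer_singleton_iff]
    nth_rewrite 2 [← h2]
    group
  have hcop : IsCoprime (m : ℤ) (((p - 1) * p ^ N : ℕ) : ℤ) := by
    rw [Nat.isCoprime_iff_coprime]
    have h3 := Nat.Coprime.coprime_mul_right_right hm
    have h4 := Nat.Coprime.coprime_mul_left_right hm
    exact Nat.Coprime.mul_right h3 (Nat.Coprime.pow_right N h4)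
  obtain ⟨u, v, huv⟩ := hcop
  have e3 : h ∈ centralizer ({x} : Set G) := by
    have h3 : h = (h ^ m) ^ u * (h ^ ((p - 1) * p ^ N)) ^ v := by
      rw [← zpow_natCast, ← zpow_natCast, ← zpow_mul, ← zpow_mul, ← zpow_add, mul_comm (m : ℤ),
        mul_comm _ v, huv, zpow_one]
    rw [h3]
    exact Subgroup.mul_mem _ (Subgroup.zpow_mem _ e1 u) (Subgroup.zpow_mem _ e2 v)
  rw [mem_centralizer_singleton_iff] at e3
  rw [e3]; group

/-- `Star p` fails -/
def Bad (p : ℕ) (G : Type*) [Group G] : Prop := ¬ Star p G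

/-- `a` of order `p`, `b = n a n⁻¹` commutes with `a`, `n b n⁻¹ = (a b)⁻¹` : `p = 5, 11, ...` -/
theorem bad_of_rot [Finite G] [Fact p.Prime] (hp : (3 : ℕ).Coprime ((p - 1) * p)) {a n : G} (ha : a ^ p = 1) (ha1 : a ≠ 1)
    (h1 : a * (n * a * n⁻¹) = (n * a * n⁻¹) * a) (h2 : n * (n * a * n⁻¹) * n⁻¹ = (a * (n * a * n⁻¹))⁻¹) : Bad p G := by
  intro hG
  set b := n * a * n⁻¹ with hb
  have hQ : IsPGroup p (zpowers a) := isPGroup_zpowers' (n := 1) (by rw [pow_one, ha])
  have hbp : b ^ p = 1 := by rw [hb, conj_pow, ha, mul_one, mul_inv_cancel]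
  have hQ' : IsPGroup p (zpowers b) := isPGroup_zpowers' (n := 1) (by rw [pow_one, hbp])
  have hcab : Commute a b := h1
  have hle : zpowers a ≤ normalizer (zpowers b : Set G) := by
    rw [zpowers_le]
    apply centralizer_le_normalizer
    rw [mem_centralizer_iff]
    intro z hz
    obtain ⟨i, rfl⟩ := mem_zpowers_iff.1 hz
    exact (hcab.zpow_right i).symm.eq
  have hR : IsPGroup p ↥(zpowers a ⊔ zpowers b) := hQ.to_sup_of_normal_right' hQ' hle
  have hn : n ∈ normalizer ((zpowers a ⊔ zpowers b : Subgroup G) : Set G) := by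
    refine mem_normalizer_of_finite ?_
    have h3 : (zpowers a ⊔ zpowers b).map (MulAut.conj n).toMonoidHom ≤ zpowers a ⊔ zpowers b := by
      rw [Subgroup.map_sup, conj_zpowers_map, conj_zpowers_map, h2, ← hb]
      refine sup_le le_sup_right ?_
      rw [zpowers_inv, zpowers_le]
      exact Subgroup.mul_mem _ (mem_sup_left (mem_zpowers a)) (mem_sup_right (mem_zpowers b))
    intro x hx
    exact h3 ⟨x, hx, rfl⟩
  have h3 : n ^ 3 * a * (n ^ 3)⁻¹ = a := by
    have e : n ^ 3 * a * (n ^ 3)⁻¹ = n * (n * (n * a * n⁻¹) * n⁻¹) * n⁻¹ := by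
      rw [pow_succ, pow_two]; group
    rw [e, ← hb, h2]
    have e2 : n * (a * b)⁻¹ * n⁻¹ = ((n * a * n⁻¹) * (n * b * n⁻¹))⁻¹ := by group
    rw [e2, ← hb, h2]
    group
  have h4 := Star.fix_of_coprime hG hR (mem_sup_left (mem_zpowers a)) hn hp h3
  have h5 : b = a := h4
  rw [h5] at h2
  have h6 : n * a * n⁻¹ = (a * a)⁻¹ := h2
  rw [← hb, h5] at h6
  have h7 : a ^ 3 = 1 := by
    rw [eq_inv_iff_mul_eq_one] at h6
    rw [pow_succ, pow_two]
    rw [← mul_assoc] at h6
    exact h6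
  have h8 : orderOf a = p := orderOf_eq_prime ha ha1
  have h9 : p ∣ 3 := h8 ▸ orderOf_dvd_of_pow_eq_one h7
  have h10 : p = 3 := ((Nat.prime_dvd_prime_iff_eq Fact.out Nat.prime_three).1 h9)
  rw [h10] at hp
  revert hp
  decide

section heredity

universe u v

variable {X : Type v} [Group X] {Y : Type u} [Group Y] [Finite Y] [Fact p.Prime]

omit [Finite Y] [Fact p.Prime] in
theorem Bad.of_injective (f : X →* Y) (hf : Function.Injective f) (h : Bad p X) : Bad p Y :=
  fun hY => h (hY.of_injective f hf)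

omit [Finite Y] [Fact p.Prime] in
theorem Bad.of_subgroup {H : Subgroup Y} (h : Bad p H) : Bad p Y := fun hY => h (hY.mono H)

omit [Finite Y] [Fact p.Prime] in
theorem Bad.congr (e : X ≃* Y) (h : Bad p X) : Bad p Y := Bad.of_injective e.toMonoidHom e.injective h

omit [Finite Y] [Fact p.Prime] in
/-- quotients by normal `p`-subgroups -/
theorem Star.of_pquot (π : Y →* X) (hπ : Function.Surjective π) (hK : IsPGroup p π.ker) (hG : Star p Y) :
    Star p X := by
  have hcom : ∀ Q : Subgroup X, IsPGroup p Q → IsPGroup p ↥(Q.comap π) := fun Q hQ => by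
    intro y
    obtain ⟨n, hn⟩ := hQ ⟨π y, y.2⟩
    have h1 : π ((y : Y) ^ p ^ n) = 1 := by rw [map_pow]; exact congrArg Subtype.val hn
    obtain ⟨m, hm⟩ := hK ⟨(y : Y) ^ p ^ n, h1⟩
    refine ⟨n + m, Subtype.ext ?_⟩
    have h2 : ((y : Y) ^ p ^ n) ^ p ^ m = 1 := congrArg Subtype.val hm
    show (y : Y) ^ p ^ (n + m) = 1
    rw [pow_add, pow_mul, h2]
  have hnor : ∀ (Q : Subgroup X) (y : Y), π y ∈ normalizer (Q : Set X) → y ∈ normalizer ((Q.comap π : Subgroup Y) : Set Y) := by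
    intro Q y hy
    rw [mem_normalizer_iff] at hy ⊢
    intro z
    rw [mem_comap, mem_comap, map_mul, map_mul, map_inv]
    exact hy _
  have hcen : ∀ (Q : Subgroup X) (y : Y), y ∈ centralizer ((Q.comap π : Subgroup Y) : Set Y) →
      π y ∈ centralizer (Q : Set X) := by
    intro Q y hy
    rw [conj_fix_iff] at hy ⊢
    intro x hx
    obtain ⟨z, rfl⟩ := hπ x
    rw [← map_inv, ← map_mul, ← map_mul, hy z hx]
  refine ⟨?_, ?_⟩
  · intro Q h hQ hh
    obtain ⟨y, rfl⟩ := hπ h
    obtain ⟨N, hN⟩ := hG.pow (Q.comap π) y (hcom Q hQ) (hnor Q y hh)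
    exact ⟨N, by rw [← map_pow]; exact hcen Q _ hN⟩
  · intro Q g h hQ hh hh'
    obtain ⟨a, rfl⟩ := hπ g
    obtain ⟨b, rfl⟩ := hπ h
    have h1 : (Q.comap π).map (MulAut.conj a).toMonoidHom = (Q.map (MulAut.conj (π a)).toMonoidHom).comap π := by
      ext y
      constructor
      · rintro ⟨z, hz, rfl⟩
        refine ⟨π z, hz, ?_⟩
        show π a * π z * (π a)⁻¹ = π (a * z * a⁻¹)
        rw [map_mul, map_mul, map_inv]
      · rintro ⟨z, hz, hzy⟩
        refine ⟨a⁻¹ * y * a, ?_, ?_⟩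
        · show π (a⁻¹ * y * a) ∈ Q
          have h2 : π a * z * (π a)⁻¹ = π y := hzy
          rw [map_mul, map_mul, map_inv, ← h2]
          have h3 : (π a)⁻¹ * (π a * z * (π a)⁻¹) * π a = z := by group
          rw [h3]; exact hz
        · show a * (a⁻¹ * y * a) * a⁻¹ = y
          group
    obtain ⟨N, hN⟩ := hG.comm (Q.comap π) a b (by
      rw [h1]
      have h3 : Q.comap π ⊔ (Q.map (MulAut.conj (π a)).toMonoidHom).comap π ≤
          (Q ⊔ Q.map (MulAut.conj (π a)).toMonoidHom).comap π :=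
        sup_le (comap_mono le_sup_left) (comap_mono le_sup_right)
      exact (hcom _ hQ).to_le h3) (hnor Q b hh) (by rw [h1]; exact hnor _ b hh')
    refine ⟨N, ?_⟩
    have h2 := hcen Q _ hN
    rwa [map_pow, map_mul, map_mul, map_mul, map_inv, map_inv] at h2

omit [Finite Y] [Fact p.Prime] in
theorem Bad.of_pquot (π : Y →* X) (hπ : Function.Surjective π) (hK : IsPGroup p π.ker) (h : Bad p X) : Bad p Y :=
  fun hY => h (Star.of_pquot π hπ hK hY)

theorem Bad.of_pprime [Finite X] (π : Y →* X) (hπ : Function.Surjective π) (hK : ¬ p ∣ Nat.card π.ker) (h : Bad p X) :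
    Bad p Y :=
  fun hY => h (Star.of_surjective π hπ hK hY)

end heredity

/-- **Abelian Sylow subgroups.** -/
theorem cyclic_of_abIrr {G : Type*} [Group G] [Finite G] [Fact p.Prime] (T : Sylow p G) (hab : IsMulCommutative (T : Subgroup G))
    (h : Super (groupFusionSystem (T : Subgroup G))) (hirr : H795.AbIrr p G) : IsCyclic (T : Subgroup G) := by
  refine cyclic_of_irr T hab h ?_
  intro Om hOm B hB hn
  rcases hirr T hab B (fun b hb => ((hOm b).1 (hB hb)).1) (fun b hb => ((hOm b).1 (hB hb)).2) hn with h1 | h1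
  · exact Or.inl h1
  · right
    apply le_antisymm hB
    intro x hx
    obtain ⟨h2, h3⟩ := (hOm x).1 hx
    exact h1 x h2 h3

end Cfsg.Agent.H216.StarCrit
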