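import Cfsg.Agent.H216.StarCrit
import Cfsg.Agent.H794.DefAb
import Cfsg.Agent.ClassicalGeometry.PSUAutDelta
import Cfsg.Agent.S0280

/-!
# Sylow subgroups of supersoluble type: defining characteristic (helper216)

* `cyclic_of_full` : `Full p G`;
* `bad_ree`, `bad_psu` : `Star p` fails in `²G₂(q)`, `p = 3`, and in `PSU₃(q)`, `q` a proper power of `p`;
* `def_main` : `IsLieTypeChar p G`, `p ≠ 2`.
-/

set_option autoImplicit false

namespace Cfsg.Agent.H216.StarDef

open Cfsg Cfsg.Agent.H790 Cfsg.Agent.H216.StarCrit Subgroup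

theorem cyclic_of_full {G : Type*} [Group G] [Finite G] {p : ℕ} [Fact p.Prime] (T : Sylow p G)
    (h : Super (groupFusionSystem (T : Subgroup G))) (hf : H794.Full p G) : IsCyclic (T : Subgroup G) := by
  by_cases hne : (T : Subgroup G) = ⊥
  · have : Subsingleton (T : Subgroup G) := by rw [hne]; infer_instance
    infer_instance
  obtain ⟨x, hx, ho, hs⟩ := exists_strong T.2 h hne
  rcases hf T (zpowers x) ⟨by rwa [zpowers_le], fun y hy g hg => hs y hy g hg⟩ with h1 | h1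
  · rw [zpowers_eq_bot] at h1
    rw [h1, orderOf_one] at ho
    exact absurd ho.symm (Fact.out : p.Prime).ne_one
  · rw [← h1]; infer_instance

section ree

open Cfsg.Agent.LieRecognition.ReeAbs Cfsg.Agent.LieRecognition.ReeSylowThree

theorem bad_ree {G : Type*} [Group G] [Finite G] (hG : Cfsg.Lie.IsoRee G) : Bad 3 G := by
  have : Fact (Nat.Prime 3) := ⟨Nat.prime_three⟩
  obtain ⟨K, _, _, m, hm, hK, ⟨e⟩⟩ := hG
  have : Finite ↥(Cfsg.Lie.twistedG2 K (3 ^ m)) := Finite.of_equiv G e.toEquiv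
  obtain ⟨U, h, n, D⟩ := Cfsg.Agent.ChevalleyStructure.Ree.Data.exists_data hK
  suffices hb : Bad 3 ↥(Cfsg.Lie.twistedG2 K (3 ^ m)) from hb.congr e.symm
  intro hS
  have hP : IsPGroup 3 ↥(uSub D) :=
    IsPGroup.of_card (n := 3 * (2 * m + 1)) (by rw [card_uSub, hK, ← pow_mul, mul_comm])
  obtain ⟨a, ha⟩ := IsCyclic.exists_generator (α := Kˣ)
  have hoa : orderOf a = 3 ^ (2 * m + 1) - 1 := by
    rw [orderOf_eq_card_of_forall_mem_zpowers ha, Nat.card_units, Nat.card_eq_fintype_card, hK]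
  have h1 : h 1 = 1 := by
    have := D.h_mul 1 1
    rw [mul_one] at this
    exact left_eq_mul.1 this
  have hpow : ∀ k : ℕ, h a ^ k = h (a ^ k) := by
    intro k
    induction k with
    | zero => rw [pow_zero, pow_zero, h1]
    | succ k ih => rw [pow_succ, pow_succ, D.h_mul, ih]
  obtain ⟨N, hN⟩ := hS.pow (uSub D) (h a) hP (mem_normalizer_of_finite (by
    rintro _ ⟨t, u, v, rfl⟩
    rw [D.h_U, mul_inv_cancel_right]
    exact ⟨_, _, _, rfl⟩))
  have h2 := (conj_fix_iff _ _).1 hN (U 1 0 0) ⟨_, _, _, rfl⟩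
  rw [hpow, D.h_U, mul_inv_cancel_right] at h2
  have h3 := (U_injective D h2).1
  rw [mul_one, ← Units.val_pow_eq_pow_val, Units.val_eq_one, ← pow_mul] at h3
  have h4 := orderOf_dvd_of_pow_eq_one h3
  rw [hoa] at h4
  have hcop : Nat.Coprime (3 ^ (2 * m + 1) - 1) 3 := by
    rw [Nat.coprime_comm, Nat.prime_three.coprime_iff_not_dvd]
    intro hd
    have h5 : 3 ∣ 3 ^ (2 * m + 1) := dvd_pow_self 3 (by omega)
    have h6 : 1 ≤ 3 ^ (2 * m + 1) := Nat.one_le_pow _ _ (by norm_num)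
    omega
  have e1 : (3 - 1) * 3 ^ N * 3 ^ (m + 1) = 3 ^ (N + (m + 1)) * 2 := by
    rw [pow_add]; ring
  rw [e1] at h4
  have h5 : 3 ^ (2 * m + 1) - 1 ∣ 2 := (Nat.Coprime.pow_right _ hcop).dvd_of_dvd_mul_left h4
  have h6 := Nat.le_of_dvd (by norm_num) h5
  have h7 : 3 ^ 3 ≤ 3 ^ (2 * m + 1) := Nat.pow_le_pow_right (by norm_num) (by omega)
  omega

end ree

section psu

open Cfsg.Agent.ClassicalGeometry.PSUAutBasic Cfsg.Agent.ClassicalGeometry.PSUAutSylow
  Cfsg.Agent.ClassicalGeometry.PSUAutPhi Cfsg.Agent.ClassicalGeometry.PSUAutSemi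
  Cfsg.Agent.ClassicalGeometry.PSUAutTorus Cfsg.Agent.ClassicalGeometry.PSUAutDelta
  Cfsg.Agent.LieClassical.HermSiegel Cfsg.Agent.LieClassical.HermBasic Cfsg.Agent.LieClassical.HermGen

variable {F : Type*} [Field F] [Fintype F] {q p : ℕ} [hp : Fact p.Prime] [CharP F p]

theorem bad_psu (hF : Fintype.card F = q ^ 2) (hq : p < q) : Bad p (PSU 3 F q) := by
  have : Finite (PSU 3 F q) := Quotient.finite _
  have hn : 3 ≤ 3 := le_rfl
  intro hS
  obtain ⟨e, f, H⟩ := exists_frame (n := 3) hF (by omega)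
  obtain ⟨a, ha⟩ := IsCyclic.exists_generator (α := Fˣ)
  have hoa : orderOf a = q ^ 2 - 1 := by
    rw [orderOf_eq_card_of_forall_mem_zpowers ha, Nat.card_units, Nat.card_eq_fintype_card, hF]
  obtain ⟨l, hle, -, -, -⟩ := exists_torus_unit hF H single_zero_mem (herm_single_zero hF) a.ne_zero
  obtain ⟨μ, hμ0, hμ⟩ := exists_trace_zero_ne (F := F) hF
  have hP := isPGroup_siegG hF p H.ee
  have hlk : ∀ k : ℕ, act (l ^ k) e = ((a ^ k : Fˣ) : F) • e := by
    intro k
    induction k with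
    | zero => rw [pow_zero, pow_zero, act_one, Units.val_one, one_smul]
    | succ k ih => rw [pow_succ', act_mul, ih, act_smul, hle, smul_smul, pow_succ, Units.val_mul]
  obtain ⟨N, hN⟩ := hS.pow ((siegG hF e H.ee).map (pr 3 F q)) (pr 3 F q l) (hP.map _) (mem_normalizer_of_finite (by
    rintro _ ⟨_, ⟨w, ν, h, rfl⟩, rfl⟩
    obtain ⟨h', hh⟩ := conj_siegel_stab hF hle a.ne_zero h
    exact ⟨_, ⟨_, _, h', rfl⟩, by rw [← hh, map_mul, map_mul, map_inv]⟩))
  have hz := isSiegel_zero H.ee hμ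
  have h2 := (conj_fix_iff _ _).1 hN (pr 3 F q (siegel hF e 0 μ hz)) (mem_map_of_mem _ ⟨_, _, hz, rfl⟩)
  obtain ⟨h', hh⟩ := conj_siegel_stab hF (hlk ((p - 1) * p ^ N)) (Units.ne_zero _) hz
  rw [← map_pow, ← map_inv, ← map_mul, ← map_mul, hh] at h2
  obtain ⟨k₁, hk₁⟩ := siegel_pow_prime_pow hF p h'
  obtain ⟨k₂, hk₂⟩ := siegel_pow_prime_pow hF p hz
  have h3 := eq_of_pr_eq hF hn hk₁ hk₂ h2
  have h4 := (siegel_inj hF H (by rw [act_zero, smul_zero]; exact zero_mem _) (zero_mem _) h' hz h3).2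
  have h5 : ((a ^ ((p - 1) * p ^ N * (q + 1)) : Fˣ) : F) = 1 := by
    have h6 := mul_right_cancel₀ hμ0 (h4.trans (one_mul μ).symm)
    rw [← h6, pow_mul, pow_succ', Units.val_mul, Units.val_pow_eq_pow_val _ q]
  rw [Units.val_eq_one] at h5
  have h6 := orderOf_dvd_of_pow_eq_one h5
  rw [hoa] at h6
  have hpp : p.Prime := hp.out
  have e1 : q ^ 2 - 1 = (q + 1) * (q - 1) := by
    have := Nat.sq_sub_sq q 1
    rwa [one_pow] at this
  rw [e1, mul_comm ((p - 1) * p ^ N)] at h6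
  have h7 : q - 1 ∣ (p - 1) * p ^ N := Nat.dvd_of_mul_dvd_mul_left (by omega) h6
  obtain ⟨k, hk⟩ := exists_card_eq (F := F) p
  have hcop : Nat.Coprime (q - 1) p := by
    rw [Nat.coprime_comm, hpp.coprime_iff_not_dvd]
    intro hd
    have h8 : p ∣ q := by
      have h9 : p ∣ q ^ 2 := by
        rw [← hF, hk]
        refine dvd_pow_self p ?_
        rintro rfl
        rw [pow_zero] at hk
        have := Fintype.one_lt_card (α := F)
        omega
      exact hpp.dvd_of_dvd_pow h9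
    have h9 := (Nat.dvd_sub h8 hd)
    have e2 : q - (q - 1) = 1 := by omega
    rw [e2] at h9
    exact hpp.one_lt.ne' (Nat.dvd_one.1 h9)
  have h8 : q - 1 ∣ p - 1 := (Nat.Coprime.pow_right _ hcop).dvd_of_dvd_mul_right h7
  have h9 := Nat.le_of_dvd (by have := hpp.two_le; omega) h8
  have h10 := hpp.two_le
  omega

omit [CharP F p] in
/-- the Sylow `p`-subgroups of `PSU₃(p)` have order `p ^ 3` -/
theorem card_sylow_psu (hF : Fintype.card F = p ^ 2) (T : Sylow p (PSU 3 F p)) : Nat.card (T : Subgroup (PSU 3 F p)) = p ^ 3 := by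
  have : Finite (PSU 3 F p) := Quotient.finite _
  have hpp : p.Prime := hp.out
  have h := Cfsg.Agent.S0280.result hF 3 (by norm_num)
  have e : (∏ i ∈ Finset.range 3, (if Even i then p ^ (i + 1) + 1 else p ^ (i + 1) - 1)) =
      (p + 1) * (p ^ 2 - 1) * (p ^ 3 + 1) := by
    rw [Finset.prod_range_succ, Finset.prod_range_succ, Finset.prod_range_succ, Finset.prod_range_zero]
    norm_num [Nat.even_iff]
  rw [e] at h
  have nd1 : ¬ p ∣ p + 1 := fun hd => hpp.one_lt.ne' (Nat.dvd_one.1 ((Nat.dvd_add_right (dvd_refl p)).1 hd))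
  have nd2 : ¬ p ∣ p ^ 2 - 1 := fun hd => by
    have h1 : p ∣ p ^ 2 := dvd_pow_self p two_ne_zero
    have h2 := Nat.dvd_sub h1 hd
    have h3 : 1 ≤ p ^ 2 := Nat.one_le_pow _ _ hpp.pos
    have e2 : p ^ 2 - (p ^ 2 - 1) = 1 := by omega
    rw [e2] at h2
    exact hpp.one_lt.ne' (Nat.dvd_one.1 h2)
  have nd3 : ¬ p ∣ p ^ 3 + 1 := fun hd =>
    hpp.one_lt.ne' (Nat.dvd_one.1 ((Nat.dvd_add_right (dvd_pow_self p three_ne_zero)).1 hd))
  have nd4 : ¬ p ∣ Nat.gcd 3 (p + 1) := fun hd => nd1 (hd.trans (Nat.gcd_dvd_right _ _))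
  rw [Sylow.card_eq_multiplicity]
  have hc0 : Nat.card (PSU 3 F p) ≠ 0 := Nat.card_pos.ne'
  have g0 : Nat.gcd 3 (p + 1) ≠ 0 := fun h0 => nd4 (by rw [h0]; exact dvd_zero p)
  have q0 : p + 1 ≠ 0 := by omega
  have r0 : p ^ 2 - 1 ≠ 0 := fun h0 => nd2 (by rw [h0]; exact dvd_zero p)
  have s0 : p ^ 3 + 1 ≠ 0 := by omega
  have t0 : p ^ (3 * (3 - 1) / 2) ≠ 0 := pow_ne_zero _ hpp.ne_zero
  have h1 := congrArg (fun n => n.factorization p) h
  simp only [Nat.factorization_mul g0 (mul_ne_zero q0 hc0), Nat.factorization_mul q0 hc0,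
    Nat.factorization_mul t0 (mul_ne_zero (mul_ne_zero q0 r0) s0), Nat.factorization_mul (mul_ne_zero q0 r0) s0,
    Nat.factorization_mul q0 r0, Finsupp.add_apply, Nat.factorization_eq_zero_of_not_dvd nd1,
    Nat.factorization_eq_zero_of_not_dvd nd2, Nat.factorization_eq_zero_of_not_dvd nd3,
    Nat.factorization_eq_zero_of_not_dvd nd4, Nat.factorization_pow, Finsupp.smul_apply, hpp.factorization_self] at h1
  norm_num at h1
  rw [h1]

end psu

/-- **Defining characteristic, `p ≠ 2`.** -/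
theorem def_main {p : ℕ} [hp : Fact p.Prime] (hp2 : p ≠ 2) {G : Type*} [Group G] [Finite G] [IsSimpleGroup G]
    (hG : ¬ IsMulCommutative G) (h : IsLieTypeChar p G) (T : Sylow p G)
    (hall : ∀ F : FusionSystem (T : Subgroup G), F.IsSaturated p → Super F) : IsCyclic (T : Subgroup G) := by
  have hs := hall _ (H802.groupFusionSystem_isSaturated T)
  rcases H794.DefAb.def_row hp2 hG h with h1 | ⟨-, ⟨F, _, _, _, q, hF, -, ⟨e⟩⟩ | ⟨rfl, h1⟩⟩
  · exact cyclic_of_full T hs h1
  · have : Finite (PSU 3 F q) := Quotient.finite _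
    have hpp : p.Prime := hp.out
    obtain ⟨k, hk⟩ := Cfsg.Agent.ClassicalGeometry.PSUAutBasic.exists_card_eq (F := F) p
    have hpq : p ∣ q := by
      have h9 : p ∣ q ^ 2 := by
        rw [← hF, hk]
        refine dvd_pow_self p ?_
        rintro rfl
        rw [pow_zero] at hk
        have := Fintype.one_lt_card (α := F)
        omega
      exact hpp.dvd_of_dvd_pow h9
    have hq0 : 0 < q := by
      rcases Nat.eq_zero_or_pos q with rfl | h0
      · have := Fintype.card_pos (α := F)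
        rw [hF] at this
        norm_num at this
      · exact h0
    rcases (Nat.le_of_dvd hq0 hpq).lt_or_eq with hlt | rfl
    · exact absurd (Star.of_super T hs) ((bad_psu hF hlt).congr e.symm)
    · refine cyclic_of_abIrr T (abelian_of_card_cube hp2 ?_ hall ?_) hs (H794.DefAb.abIrr_def hp2 hG h)
      · rcases (inferInstance : (commutator G).Normal).eq_bot_or_eq_top with h1 | h1
        · exfalso
          apply hG
          rw [_root_.commutator_def, commutator_eq_bot_iff_le_centralizer] at h1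
          exact ⟨⟨fun a b => (mem_centralizer_iff.1 (h1 (mem_top b)) a (mem_top a))⟩⟩
        · exact h1
      · obtain ⟨P⟩ : Nonempty (Sylow p (PSU 3 F p)) := inferInstance
        have h2 := card_sylow_psu hF P
        rw [Sylow.card_eq_multiplicity] at h2 ⊢
        rw [Nat.card_congr e.toEquiv, h2]
  · exact absurd (Star.of_super T hs) (bad_ree h1)

end Cfsg.Agent.H216.StarDef
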