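import Cfsg.Agent.H216.StarAlt
import Cfsg.Agent.HN.A12Group
import Cfsg.Agent.S1701
import Cfsg.Agent.S0497
import Cfsg.Agent.Sigma.ThRow
import Cfsg.Agent.H800.Sp.B
import Cfsg.Agent.CpAutJThree.Row
import Cfsg.Agent.S5537
import Cfsg.Agent.S5538

/-!
# `Star p` fails in the sporadic groups (helper216), part 1

* `hn_three`, `hn_five` (`A₁₂`), `th_three` (`C(z) / O₂ ≅ A₉`), `b_three`, `m_three` (`Th`), `m_five` (`HN`);
* `j3_three` (`C(c) / ⟨c⟩ ≅ A₆`).
-/

set_option autoImplicit false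
set_option maxRecDepth 10000

namespace Cfsg.Agent.H216.StarCrit.Spor

open Cfsg Cfsg.Agent.H790 Cfsg.Agent.H216.StarCrit Subgroup Equiv Equiv.Perm Cfsg.Spor

section tools

variable {X Y : Type*} [Group X] [Group Y] [Finite Y] {p : ℕ} [Fact p.Prime]

/-- a kernel of exponent prime to `p` -/
theorem bad_of_ker [Finite X] (π : Y →* X) (hπ : Function.Surjective π) {m : ℕ} (hm : ¬ p ∣ m)
    (hK : ∀ y, π y = 1 → y ^ m = 1) (h : Bad p X) : Bad p Y := by
  refine h.of_pprime π hπ fun hd => ?_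
  obtain ⟨x, hx⟩ := exists_prime_orderOf_dvd_card' p hd
  apply hm
  rw [← hx, ← Subgroup.orderOf_coe]
  exact orderOf_dvd_of_pow_eq_one (hK _ x.2)

end tools

/-! ### the group `A₆` -/

def x6 : Perm (Fin 6) := c[0, 1, 2]
def h6 : Perm (Fin 6) := c[0, 3, 1, 4] * c[2, 5]

theorem x6_pow : x6 ^ 3 = 1 := by decide +kernel
theorem x6_ne : x6 ≠ 1 := by decide +kernel
theorem comm6 : x6 * (h6 * x6 * h6⁻¹) = (h6 * x6 * h6⁻¹) * x6 := by decide +kernel
theorem rot6 : h6 * (h6 * x6 * h6⁻¹) * h6⁻¹ = x6⁻¹ := by decide +kernel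
theorem sign_x6 : x6 ∈ alternatingGroup (Fin 6) := by rw [mem_alternatingGroup]; decide +kernel
theorem sign_h6 : h6 ∈ alternatingGroup (Fin 6) := by rw [mem_alternatingGroup]; decide +kernel

theorem bad_alt_six : Bad 3 (alternatingGroup (Fin 6)) := by
  have : Fact (Nat.Prime 3) := ⟨Nat.prime_three⟩
  intro h
  exact Star.false_rot h (x := ⟨x6, sign_x6⟩) (h := ⟨h6, sign_h6⟩) (Subtype.ext x6_pow)
    (fun h => x6_ne (congrArg Subtype.val h)) (Subtype.ext comm6) (Subtype.ext rot6)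

/-! ### `HN` -/

theorem hn_of {p : ℕ} [Fact p.Prime] (h : Bad p (alternatingGroup (Fin 12))) {G : Type*} [Group G] [Finite G]
    (hG : IsoHN G) : Bad p G := by
  obtain ⟨e⟩ := hG
  have hf : Finite Spor.HN := Finite.of_equiv _ e.toEquiv
  have hs : IsSimpleGroup Spor.HN := Cfsg.Agent.S1701.result.1
  obtain ⟨K, ⟨f⟩⟩ := Cfsg.Agent.HN.A12Group.exists_alternating
  have h1 : Bad p K := h.congr f.symm
  exact (h1.of_subgroup).congr e.symm

theorem hn_three {G : Type*} [Group G] [Finite G] (hG : IsoHN G) : Bad 3 G := by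
  have : Fact (Nat.Prime 3) := ⟨Nat.prime_three⟩
  exact hn_of (Alt.bad3 (by norm_num)) hG

theorem hn_five {G : Type*} [Group G] [Finite G] (hG : IsoHN G) : Bad 5 G := by
  have : Fact (Nat.Prime 5) := ⟨Nat.prime_five⟩
  exact hn_of (Alt.bad5 (by norm_num)) hG

/-! ### `Th`, `p = 3` -/

theorem bad_of_spin {G : Type*} [Group G] [Finite G] {z : G} (S : Cfsg.Agent.ThType.SpinData.SpinAt G z) : Bad 3 G := by
  have : Fact (Nat.Prime 3) := ⟨Nat.prime_three⟩
  have hm : ∀ y : centralizer ({z} : Set G), (y : G) * z = z * y := fun y => mem_centralizer_singleton_iff.1 y.2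
  have h1 : S.φ 1 = 1 := by
    have h := S.φ_mul 1 1 (by group) (by group)
    rw [mul_one] at h
    exact left_eq_mul.1 h
  let π : centralizer ({z} : Set G) →* alternatingGroup (Fin 9) :=
    { toFun := fun y => S.φ y
      map_one' := h1
      map_mul' := fun a b => S.φ_mul a b (hm a) (hm b) }
  refine Bad.of_subgroup (H := centralizer ({z} : Set G)) ?_
  refine bad_of_ker π ?_ (m := 4) (by norm_num) ?_ (Alt.bad3 (n := 9) (by norm_num))
  · intro g
    obtain ⟨x, hx, hg⟩ := S.φ_surj g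
    exact ⟨⟨x, mem_centralizer_singleton_iff.2 hx⟩, hg⟩
  · intro y hy
    have hQ : (y : G) ∈ S.Q := (S.φ_eq_one y (hm y)).1 hy
    apply Subtype.ext
    have h2 := S.sq _ hQ
    show (y : G) ^ 4 = 1
    have e : (y : G) ^ 4 = ((y : G) * y) * ((y : G) * y) := by simp only [pow_succ, pow_zero, one_mul, mul_assoc]
    rw [e, h2]
    split_ifs
    · exact mul_one 1
    · exact S.z_sq

theorem th_three {G : Type*} [Group G] [Finite G] (hG : IsoTh G) : Bad 3 G := by
  obtain ⟨e⟩ := hG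
  have hf : Finite Spor.Th := Finite.of_equiv _ e.toEquiv
  obtain ⟨S⟩ := Cfsg.Agent.Sigma.ThRow.exists_spin
  exact (bad_of_spin S).congr e.symm

/-! ### `B` and `M` from `Th` and `HN` -/

theorem b_of_th {p : ℕ} [Fact p.Prime] {G : Type*} [Group G] [Finite G] (hG : IsoB G)
    (h : ∀ (T : Type) [Group T] [Finite T], IsoTh T → Bad p T) : Bad p G := by
  obtain ⟨e⟩ := hG
  have hf : Finite Spor.BabyMonster := Finite.of_equiv _ e.toEquiv
  obtain ⟨T, hT⟩ := Cfsg.Agent.H800.Sp.B.exists_th_B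
  exact ((h T hT).of_subgroup).congr e.symm

theorem b_three {G : Type*} [Group G] [Finite G] (hG : IsoB G) : Bad 3 G := by
  have : Fact (Nat.Prime 3) := ⟨Nat.prime_three⟩
  exact b_of_th hG fun T _ _ hT => th_three hT

theorem m_of_th {p : ℕ} [Fact p.Prime] {G : Type*} [Group G] [Finite G] (hG : IsoM G)
    (h : ∀ (T : Type) [Group T] [Finite T], IsoTh T → Bad p T) : Bad p G := by
  obtain ⟨e⟩ := hG
  have hf : Finite Spor.Monster := Finite.of_equiv _ e.toEquiv
  obtain ⟨T, hT⟩ := Cfsg.Agent.S5537.result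
  exact ((h T hT).of_subgroup).congr e.symm

theorem m_three {G : Type*} [Group G] [Finite G] (hG : IsoM G) : Bad 3 G := by
  have : Fact (Nat.Prime 3) := ⟨Nat.prime_three⟩
  exact m_of_th hG fun T _ _ hT => th_three hT

theorem m_five {G : Type*} [Group G] [Finite G] (hG : IsoM G) : Bad 5 G := by
  have : Fact (Nat.Prime 5) := ⟨Nat.prime_five⟩
  obtain ⟨e⟩ := hG
  have hf : Finite Spor.Monster := Finite.of_equiv _ e.toEquiv
  obtain ⟨T, hT⟩ := Cfsg.Agent.S5538.result
  exact ((hn_five hT).of_subgroup).congr e.symm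

/-! ### `J₃`, `p = 3` -/

open Cfsg.Agent.CpAutJThree in
theorem j3_three {K : Type*} [Group K] [Finite K] (h : IsoJ3 K) : Bad 3 K := by
  have : Fact (Nat.Prime 3) := ⟨Nat.prime_three⟩
  obtain ⟨hcard, hmod, hone, -⟩ := base h
  obtain ⟨x, hx, ⟨t, ht, htx⟩, hC⟩ := exc h
  have memC : ∀ a : K, a ∈ centralizer ({x} : Set K) ↔ a * x = x * a := fun a => mem_centralizer_singleton_iff
  let c : centralizer ({x} : Set K) := ⟨x, (memC x).2 rfl⟩
  have hc3 : orderOf c = 3 := by rw [← hx]; exact orderOf_mk _ _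
  have hcc : ∀ a : centralizer ({x} : Set K), a * c = c * a := fun a => Subtype.ext ((memC a).1 a.2)
  have hZn : (zpowers c).Normal := by
    constructor
    rintro n ⟨k, rfl⟩ g
    refine ⟨k, ?_⟩
    have h1 : Commute g c := hcc g
    have := h1.zpow_right k
    show c ^ k = g * c ^ k * g⁻¹
    rw [this.eq]; group
  have hHD8 := J3Type.Extra.hd8_quotient c hc3 hcc (hD_of_model hmod hx)
  have hq : Nat.card (↥(centralizer ({x} : Set K)) ⧸ zpowers c) = 360 := by
    have := card_eq_card_quotient_mul_card_subgroup (zpowers c)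
    rw [hC, Nat.card_zpowers, hc3] at this
    omega
  obtain ⟨s', hs'⟩ := exists_prime_orderOf_dvd_card' (G := ↥(centralizer ({x} : Set K)) ⧸ zpowers c) 2
    (by rw [hq]; norm_num)
  have hsim := J3Type.Extra.isSimple hHD8 hs'
  obtain ⟨e⟩ := Cfsg.Agent.S0497.result hq
  refine Bad.of_subgroup (H := centralizer ({x} : Set K)) ?_
  refine (bad_alt_six.congr e.symm).of_pquot (QuotientGroup.mk' (zpowers c)) (QuotientGroup.mk'_surjective _) ?_
  rw [QuotientGroup.ker_mk']
  exact isPGroup_zpowers' (n := 1) (by rw [pow_one, ← hc3, pow_orderOf_eq_one])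

end Cfsg.Agent.H216.StarCrit.Spor
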