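import Cfsg.Agent.H216.StarSpor
import Cfsg.Agent.H216.StarMon
import Cfsg.Agent.H216.StarDef
import Cfsg.Agent.H790.RestFive
import Cfsg.Agent.H790.TriMain
import Cfsg.Agent.H790.PCube
import Cfsg.Agent.H817.GTwoRow
import Cfsg.Agent.H792.FF
import Cfsg.Agent.H629.FFRows
import Cfsg.Agent.H334.ABRow

/-!
# Sylow subgroups of supersoluble type of the known simple groups are cyclic (helper216)
-/

set_option autoImplicit false

namespace Cfsg.Agent.H216.SupAsm

open Cfsg Cfsg.Agent.H790 Cfsg.Agent.H216.StarCrit Cfsg.Agent.H216.StarDef Subgroup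

universe u

variable {p : ℕ} [hp : Fact p.Prime] {G : Type u} [Group G] [Finite G]

/-- Sylow subgroups in a group with abelian `p`-subgroups -/
theorem isMulCommutative_of_abP (h : ∀ P : Subgroup G, IsPGroup p P → ∀ a ∈ P, ∀ b ∈ P, a * b = b * a) (T : Sylow p G) :
    IsMulCommutative (T : Subgroup G) :=
  ⟨⟨fun a b => Subtype.ext (h T T.isPGroup' a a.2 b b.2)⟩⟩

/-- **Abelian Sylow subgroups.** -/
theorem cyclic_of_ab [IsSimpleGroup G] (hp2 : p ≠ 2) (hna : ¬ IsMulCommutative G) (hK : IsKnownSimple' G) (T : Sylow p G)
    (hs : Super (groupFusionSystem (T : Subgroup G))) (hab : IsMulCommutative (T : Subgroup G)) :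
    IsCyclic (T : Subgroup G) := by
  by_cases hM : p = 13 ∧ Spor.IsoM G
  · exfalso
    obtain ⟨rfl, hM⟩ := hM
    exact StarMon.m_thirteen hM (Star.of_super T hs)
  · exact cyclic_of_abIrr T hab hs (H334.ABRow.abIrr_odd hna hK hp2 hM)

/-- **Odd primes.** -/
theorem odd_main [IsSimpleGroup G] (hp2 : p ≠ 2) (hna : ¬ IsMulCommutative G) (hK : IsKnownSimple' G) (T : Sylow p G)
    (hall : ∀ X : FusionSystem (T : Subgroup G), X.IsSaturated p → Super X) : IsCyclic (T : Subgroup G) := by
  have hs : Super (groupFusionSystem (T : Subgroup G)) := hall _ (H802.groupFusionSystem_isSaturated T)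
  have hfull : H749.FullP p G → IsCyclic (T : Subgroup G) := fun h => cyclic_of_full T hs (H792.SpTool.full_of_fullP h)
  have hab : (∀ P : Subgroup G, IsPGroup p P → ∀ a ∈ P, ∀ b ∈ P, a * b = b * a) → IsCyclic (T : Subgroup G) := fun h =>
    cyclic_of_ab hp2 hna hK T hs (isMulCommutative_of_abP h T)
  have hclass : (IsLieTypeChar p G ∨ H749.Dich p G) → IsCyclic (T : Subgroup G) := by
    rintro (h | h | h)
    · exact def_main hp2 hna h T hall
    · exact hfull h
    · exact hab h
  have hperf : commutator G = ⊤ := by
    rcases (inferInstance : (commutator G).Normal).eq_bot_or_eq_top with h | h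
    · exact absurd ⟨⟨fun a b => by
        have h1 := Subgroup.commutator_mem_commutator (Subgroup.mem_top a) (Subgroup.mem_top b)
        have h2 : ⁅(⊤ : Subgroup G), ⊤⁆ = ⊥ := h
        rw [h2, Subgroup.mem_bot, commutatorElement_eq_one_iff_mul_comm] at h1
        exact h1⟩⟩ hna
    · exact h
  rcases id hK with h | h | h | h | h | h | h | h | h | h
  · exfalso
    have hf : Fact (Nat.card G).Prime := ⟨h⟩
    have hc : IsCyclic G := isCyclic_of_prime_card rfl
    exact hna (IsCyclic.isMulCommutative (α := G))
  · exact cyclic_of_full T hs (H794.full_alt hp2 h)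
  · exact hclass (H749.row_classical hp2 (Or.inl h))
  · exact hclass (H749.row_classical hp2 (Or.inr (Or.inl h)))
  · exact hclass (H749.row_classical hp2 (Or.inr (Or.inr (Or.inl h))))
  · exact hclass (H749.row_classical hp2 (Or.inr (Or.inr (Or.inr (Or.inl h)))))
  · exact hclass (H749.row_classical hp2 (Or.inr (Or.inr (Or.inr (Or.inr (Or.inl h))))))
  · exact hclass (H749.row_classical hp2 (Or.inr (Or.inr (Or.inr (Or.inr (Or.inr h))))))
  · by_cases hp3 : p = 3
    · subst hp3
      rcases H629.ExcFinal.exc_three h with h | h | h | h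
      · exact hfull h
      · exact def_main hp2 hna (H629.FFRows.lieTypeChar_of_excChar h) T hall
      · refine hab (H749.AbelP.of_not_dvd ?_)
        exact Nat.factorization_eq_zero_of_not_dvd (H520.not_three_sz h)
      · rcases h with ⟨F, h2, h3, e⟩ | ⟨K, q, hq, hK', h3, ⟨e⟩⟩ | h1 | h1 | h1
        · exact (H817.GTwoRow.false_chevG2_three hna (H629.ExcFinal.ne_zero_of_not_dvd h3) e T hall).elim
        · have h4 : (3 : K) ≠ 0 := by
            refine H629.ExcFinal.ne_zero_of_not_dvd ?_
            rw [hK']
            exact fun h5 => h3 (Nat.prime_three.dvd_of_dvd_pow h5)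
          exact hfull ((H790.TriMain.fullP_twD4 h4 hq hK').of_mulEquiv e.symm)
        · refine def_main hp2 hna ?_ T hall
          unfold IsLieTypeChar
          tauto
        · exact hfull (H760.TwFFull.fullP_twF4_three h1)
        · exact hfull (H761.TitsFull.fullP_tits_three h1)
    · have h5 : 5 ≤ p := by
        have h2 := hp.out.two_le
        have h4 : p ≠ 4 := by
          rintro rfl
          exact absurd hp.out (by norm_num)
        omega
      rcases H629.ExcFinal.exc_five h h5 with h | h | h | h
      · exact hab h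
      · exact def_main hp2 hna (H629.FFRows.lieTypeChar_of_excChar h) T hall
      · exact hfull h
      · exact hfull (H790.RestFive.rest_five h)
  · rcases H792.SpAll.spor_rows_odd h hp2 with h | ⟨h, -⟩ | ⟨rfl, h, -⟩ | h
    · exact hfull h
    · exact cyclic_of_ab hp2 hna hK T hs (abelian_of_card_cube hp2 hperf hall (H629.FFRows.cube_card h T))
    · exact (StarCrit.Spor.j3_three h (Star.of_super T hs)).elim
    · exact cyclic_of_ab hp2 hna hK T hs (h T)

/-- **The theorem for the known simple groups.** -/
theorem main [IsSimpleGroup G] (hK : IsKnownSimple' G) (T : Sylow p G)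
    (hall : ∀ X : FusionSystem (T : Subgroup G), X.IsSaturated p → Super X) : IsCyclic (T : Subgroup G) := by
  by_cases hna : IsMulCommutative G
  · letI : CommGroup G := { (inferInstance : Group G) with mul_comm := fun a b => hna.is_comm.comm a b }
    have : IsCyclic G := inferInstance
    infer_instance
  · by_cases hp2 : p = 2
    · subst hp2
      have h := two_false hna T (hall _ (H802.groupFusionSystem_isSaturated T))
      have : Subsingleton (T : Subgroup G) := by rw [h]; infer_instance
      infer_instance
    · exact odd_main hp2 hna hK T hall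

end Cfsg.Agent.H216.SupAsm
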